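import Groth.Agent.Lib.Lead.GE.FibreAmple
import Groth.Agent.Lib.Helper2.AlgzExt1
import Groth.Agent.Lib.Lead.QC.PullTensorInv
import Groth.Agent.Lib.Helper5.Curve2.C

/-! # EGA III 4.7.1: vanishing of the stalks of the higher direct images of the twists by a
module which is ample on the fibre (S0062) -/

set_option autoImplicit false
universe u
open CategoryTheory Limits Opposite Abelian AlgebraicGeometry TopologicalSpace

namespace Groth.Agent.LD.GE

open Groth.Agent.LD Groth.Agent.LD.QC Groth.Agent.LD.QCQS Groth.Agent.LD.RP Groth.Agent.LD.SC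
  Groth.Agent.LD.PN.AmD

section
variable {A : Type u} [CommRing A] {X : Scheme.{u}} [X.Over (Spec (CommRingCat.of A))]

/-- `M / J^k M` transported along an isomorphism. -/
noncomputable def modPowIso (J : Ideal A) (k : ℕ) {M N : X.Modules} (e : M ≅ N) :
    Formal.modPow J k M ≅ Formal.modPow J k N where
  hom := Groth.Agent.H2.FormalEq.modPowMap J k e.hom
  inv := Groth.Agent.H2.FormalEq.modPowMap J k e.inv
  hom_inv_id := by
    rw [← cancel_epi (Formal.modPowπ J k M), Groth.Agent.H2.FormalEq.modPowπ_modPowMap_assoc,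
      Groth.Agent.H2.FormalEq.modPowπ_modPowMap, e.hom_inv_id_assoc, Category.comp_id]
  inv_hom_id := by
    rw [← cancel_epi (Formal.modPowπ J k N), Groth.Agent.H2.FormalEq.modPowπ_modPowMap_assoc,
      Groth.Agent.H2.FormalEq.modPowπ_modPowMap, e.inv_hom_id_assoc, Category.comp_id]

end

variable {X Y : Scheme.{u}} (f : X ⟶ Y) [IsProper f] [IsLocallyNoetherian Y] (y : Y)

/-- **EGA III 4.7.1** (S0062). -/
theorem isZero_stalk_RpushAb_twist (hfin : RS.FinCoh.{u}) (hFF : RS.FormalHyp.{u})
    (L : X.Modules) (hL : PicF.IsInvertible L)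
    (hy : CohB1.IsAmple ((Scheme.Modules.pullback (f.fiberι y)).obj L))
    (M : X.Modules) (hM : Coh.IsCoh M) :
    ∃ d₀ : ℕ, ∀ d : ℕ, d₀ ≤ d → ∀ p : ℕ, 0 < p →
      IsZero (TopCat.Presheaf.stalk ((Coh.RpushAb f p).obj
        (Coh.toAb (CohB1.tensorMod M (CohB1.tensorPow L d)))).obj y) := by
  haveI := hasInjRes X
  haveI := hM.1
  letI : (pullback f (Y.fromSpecStalk y)).Over (Spec (CommRingCat.of (Y.presheaf.stalk y))) :=
    ⟨pullback.snd f (Y.fromSpecStalk y)⟩
  have hsq' : IsPullback (pullback.fst f (Y.fromSpecStalk y))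
      ((pullback f (Y.fromSpecStalk y)) ↘ Spec (CommRingCat.of (Y.presheaf.stalk y))) f
      (Y.fromSpecStalk y) := IsPullback.of_hasPullback f (Y.fromSpecStalk y)
  have hM₁ : Coh.IsCoh ((Scheme.Modules.pullback (pullback.fst f (Y.fromSpecStalk y))).obj M) :=
    ⟨QC.qc_pullback _ M, QC.isFiniteType_pullback _ M hM.2⟩
  have hL₁ : PicF.IsInvertible
      ((Scheme.Modules.pullback (pullback.fst f (Y.fromSpecStalk y))).obj L) :=
    isInvertible_pullback _ hL
  haveI : IsProper ((pullback f (Y.fromSpecStalk y)) ↘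
      Spec (CommRingCat.of (Y.presheaf.stalk y))) :=
    MorphismProperty.of_isPullback (P := @IsProper) hsq' inferInstance
  haveI : IsLocallyNoetherian (pullback f (Y.fromSpecStalk y)) :=
    LocallyOfFiniteType.isLocallyNoetherian ((pullback f (Y.fromSpecStalk y)) ↘
      Spec (CommRingCat.of (Y.presheaf.stalk y)))
  haveI : CompactSpace ↥(pullback f (Y.fromSpecStalk y)) :=
    (quasiCompact_iff_compactSpace ((pullback f (Y.fromSpecStalk y)) ↘
      Spec (CommRingCat.of (Y.presheaf.stalk y)))).mp inferInstance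
  obtain ⟨d₀, hd₀⟩ := van_formal (Y.presheaf.stalk y)
    (IsLocalRing.maximalIdeal (Y.presheaf.stalk y)) hL₁
    (fun N hN hk => ev_of_killedBy_pow f y _ _ hsq' L hL hy N hN 1 (by rwa [pow_one]))
    (Formal.completion (IsLocalRing.maximalIdeal (Y.presheaf.stalk y))
      ((Scheme.Modules.pullback (pullback.fst f (Y.fromSpecStalk y))).obj M))
    (Groth.Agent.H2.AlgzExt.isCohFormal_completion _ hM₁)
  refine ⟨d₀, fun d hd p hp => ?_⟩
  have hMd : Coh.IsCoh (CohB1.tensorMod M (CohB1.tensorPow L d)) :=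
    Groth.Agent.H5.Curve2.isCoh_tensor_of_isInvertible hM (isInvertible_tensorPow hL d)
  have hlim : Formal.HHlim (IsLocalRing.maximalIdeal (Y.presheaf.stalk y))
      ((Scheme.Modules.pullback (pullback.fst f (Y.fromSpecStalk y))).obj
        (CohB1.tensorMod M (CohB1.tensorPow L d))) p = ⊥ := by
    rw [eq_bot_iff]
    intro x _
    rw [AddSubgroup.mem_bot]
    funext n
    haveI : Subsingleton (Formal.HHmodPow (IsLocalRing.maximalIdeal (Y.presheaf.stalk y))
        ((Scheme.Modules.pullback (pullback.fst f (Y.fromSpecStalk y))).obj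
          (CohB1.tensorMod M (CohB1.tensorPow L d))) p n) := by
      have ε : (Scheme.Modules.pullback (pullback.fst f (Y.fromSpecStalk y))).obj
          (CohB1.tensorMod M (CohB1.tensorPow L d)) ≅
          CohB1.tensorMod ((Scheme.Modules.pullback (pullback.fst f (Y.fromSpecStalk y))).obj M)
            (CohB1.tensorPow
              ((Scheme.Modules.pullback (pullback.fst f (Y.fromSpecStalk y))).obj L) d) :=
        pbTensorIsoR _ M (CohB1.tensorPow L d) (isInvertible_tensorPow hL d) ≪≫
          tensorIso' (Iso.refl _) (pbTensorPowIso _ L hL d)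
      have h1 : Subsingleton (Coh.HH (pullback f (Y.fromSpecStalk y))
          (CohB1.tensorMod (Formal.modPow (IsLocalRing.maximalIdeal (Y.presheaf.stalk y)) (n + 1)
            ((Scheme.Modules.pullback (pullback.fst f (Y.fromSpecStalk y))).obj M))
            (CohB1.tensorPow
              ((Scheme.Modules.pullback (pullback.fst f (Y.fromSpecStalk y))).obj L) d)) p) :=
        hd₀ d hd n p hp
      have hfg : (IsLocalRing.maximalIdeal (Y.presheaf.stalk y)).FG :=
        (isNoetherianRing_iff_ideal_fg _).mp inferInstance _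
      have h2 := subsingleton_HH_modPow_tensor (IsLocalRing.maximalIdeal (Y.presheaf.stalk y)) hfg
        (n + 1) ((Scheme.Modules.pullback (pullback.fst f (Y.fromSpecStalk y))).obj M)
        (isInvertible_tensorPow hL₁ d) p h1
      exact AS.subsingleton_HH_of_iso' (modPowIso _ (n + 1) ε.symm) p h2
    exact Subsingleton.elim _ _
  obtain ⟨V, hyV, hzV⟩ := RS.exists_nbhd_isZero_Rpush f hfin hFF _ hMd y p _ _ hsq' hlim
  have h1 := isZero_stalk_toAb_of_isZero_restrict
    ((Coh.Rpush f p).obj (CohB1.tensorMod M (CohB1.tensorPow L d))) V y hyV hzV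
  obtain ⟨e⟩ := nonempty_toAb_Rpush_iso f (CohB1.tensorMod M (CohB1.tensorPow L d)) p
  refine h1.of_iso ?_
  exact ((TopCat.Presheaf.stalkFunctor AddCommGrpCat.{u} y).mapIso
    ((sheafToPresheaf _ _).mapIso e)).symm

end Groth.Agent.LD.GE
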