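import Groth.Agent.Lib.Lead.GE.UVanC
import Groth.Agent.Lib.Lead.QC.InvEpi
import Groth.Agent.Lib.Lead.SC.GenCrit
import Groth.Agent.Lib.Lead.Stein.Vanish

/-! # `M ↦ M / K M` commutes with twisting by an invertible module -/

universe u
open CategoryTheory Limits Opposite TopologicalSpace AlgebraicGeometry

namespace Groth.Agent.LD.GE
open Groth.Agent.LD.FF Groth.Agent.LD

variable {A : Type u} [CommRing A] {X : Scheme.{u}} [X.Over (Spec (CommRingCat.of A))]

/-- multiplication by `a` on `M ⊗ P` is `(multiplication by a on M) ⊗ P`. -/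
lemma tensorMap_smulMod_id (M : X.Modules) {P : X.Modules} (hP : PicF.IsInvertible P) (a : A) :
    KoszTw.tensorMap (Formal.smulMod A M a) (𝟙 P) =
      Formal.smulMod A (CohB1.tensorMod M P) a := by
  apply QC.hom_ext_tmul_of_isInvertible hP
  intro U m p
  rw [KoszTw.tensorMap_tmul, Stein.smulMod_app, Stein.smulMod_app, QC.tmul_smul_left]
  rfl

/-- a morphism killing the multiplications by generators of `K` kills `K`. -/
lemma kills_of_gens {r : ℕ} (c : Fin r → A) {K : Ideal A} (hc : Ideal.span (Set.range c) = K)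
    {N Z : X.Modules} (ψ : N ⟶ Z) (h : ∀ j, Formal.smulMod A N (c j) ≫ ψ = 0) :
    Formal.smulFamily K N ≫ ψ = 0 := by
  apply Sigma.hom_ext
  intro a
  rw [← Category.assoc, ι_σ, comp_zero]
  have ha : (a : A) ∈ Ideal.span (Set.range c) := hc ▸ a.2
  obtain ⟨b, hb⟩ := (Submodule.mem_span_range_iff_exists_fun A).mp ha
  rw [← hb, smulMod_sum, Preadditive.sum_comp]
  refine Finset.sum_eq_zero fun j _ => ?_
  rw [smul_eq_mul, CohIII.smulMod_mul, smulMod_comm, Category.assoc, h j, comp_zero]

/-- **`(M ⊗ P) / K (M ⊗ P) ≅ (M / K M) ⊗ P`** for a finitely generated ideal `K` and an invertible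
module `P`, compatibly with the projections. -/
theorem exists_cokernel_smulFamily_tensor_iso (K : Ideal A) (hK : K.FG) (M : X.Modules)
    {P : X.Modules} (hP : PicF.IsInvertible P) :
    ∃ e : cokernel (Formal.smulFamily K (CohB1.tensorMod M P)) ≅
        CohB1.tensorMod (cokernel (Formal.smulFamily K M)) P,
      cokernel.π (Formal.smulFamily K (CohB1.tensorMod M P)) ≫ e.hom =
        KoszTw.tensorMap (cokernel.π (Formal.smulFamily K M)) (𝟙 P) := by
  obtain ⟨S, hS⟩ := hK
  let c : Fin S.card → A := fun i => (S.equivFin.symm i : A)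
  have hc : Ideal.span (Set.range c) = K := by
    rw [← hS]
    congr 1
    ext x
    constructor
    · rintro ⟨i, rfl⟩
      exact (S.equivFin.symm i).2
    · intro hx
      exact ⟨S.equivFin ⟨x, hx⟩, by simp [c]⟩
  have hcK : ∀ j, c j ∈ K := fun j => hc ▸ Ideal.subset_span ⟨j, rfl⟩
  have hπ : ∀ (N : X.Modules) (a : A), a ∈ K →
      Formal.smulMod A N a ≫ cokernel.π (Formal.smulFamily K N) = 0 := fun N a ha => by
    rw [← ι_σ K N ⟨a, ha⟩, Category.assoc, cokernel.condition, comp_zero]
  -- the map `α`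
  have h1 : Formal.smulFamily K (CohB1.tensorMod M P) ≫
      KoszTw.tensorMap (cokernel.π (Formal.smulFamily K M)) (𝟙 P) = 0 := by
    apply kills_of_gens c hc
    intro j
    rw [← tensorMap_smulMod_id M hP, ← QC.tensorMap_comp_id, hπ M _ (hcK j),
      QC.tensorMap_zero_id hP]
  -- exactness of the finite presentation
  let Φ : (∐ fun _ : Fin S.card => M) ⟶ M := Sigma.desc (fun j => Formal.smulMod A M (c j))
  have hιΦ : ∀ j, Sigma.ι (fun _ : Fin S.card => M) j ≫ Φ = Formal.smulMod A M (c j) :=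
    fun j => Sigma.ι_desc _ _
  have hΦπ : Φ ≫ cokernel.π (Formal.smulFamily K M) = 0 := by
    apply Sigma.hom_ext
    intro j
    rw [← Category.assoc, hιΦ, hπ M _ (hcK j), comp_zero]
  have hcok : IsColimit (CokernelCofork.ofπ (cokernel.π (Formal.smulFamily K M)) hΦπ) :=
    CokernelCofork.IsColimit.ofπ' _ hΦπ (fun {Z} ψ hψ =>
      ⟨cokernel.desc (Formal.smulFamily K M) ψ (kills_of_gens c hc ψ (fun j => by
        rw [← hιΦ, Category.assoc, hψ, comp_zero])), cokernel.π_desc _ _ _⟩)
  have hex : (ShortComplex.mk Φ (cokernel.π (Formal.smulFamily K M)) hΦπ).Exact :=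
    ShortComplex.exact_of_g_is_cokernel _ hcok
  have hex' := QC.exact_tensorMap_of_isInvertible hex P hP
  haveI hepi : Epi (KoszTw.tensorMap (cokernel.π (Formal.smulFamily K M)) (𝟙 P)) :=
    QC.epi_tensorMap_of_isInvertible _ inferInstance P hP
  -- the map `β`
  have h2 : KoszTw.tensorMap Φ (𝟙 P) ≫
      cokernel.π (Formal.smulFamily K (CohB1.tensorMod M P)) = 0 := by
    have e : KoszTw.tensorMap Φ (𝟙 P) = ∑ j, KoszTw.tensorMap (SC.sigmaProj M S.card j) (𝟙 P) ≫
        Formal.smulMod A (CohB1.tensorMod M P) (c j) := by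
      have h0 := congrArg (fun φ => KoszTw.tensorMap (φ ≫ Φ) (𝟙 P)) (SC.sigmaProj_total M S.card)
      simp only [Category.id_comp, Preadditive.sum_comp, Category.assoc] at h0
      rw [← h0, QC.tensorMap_sum_id hP]
      refine Finset.sum_congr rfl fun j _ => ?_
      rw [hιΦ, QC.tensorMap_comp_id, tensorMap_smulMod_id M hP]
    rw [e, Preadditive.sum_comp]
    refine Finset.sum_eq_zero fun j _ => ?_
    rw [Category.assoc, hπ _ _ (hcK j), comp_zero]
  haveI : Epi (ShortComplex.mk (KoszTw.tensorMap Φ (𝟙 P))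
      (KoszTw.tensorMap (cokernel.π (Formal.smulFamily K M)) (𝟙 P)) (by
        rw [← QC.tensorMap_comp_id, hΦπ, QC.tensorMap_zero_id hP])).g := hepi
  have hβ := hex'.g_desc (cokernel.π (Formal.smulFamily K (CohB1.tensorMod M P))) h2
  refine ⟨⟨cokernel.desc _ _ h1, hex'.desc _ h2, ?_, ?_⟩, cokernel.π_desc _ _ _⟩
  · rw [← cancel_epi (cokernel.π (Formal.smulFamily K (CohB1.tensorMod M P))),
      cokernel.π_desc_assoc, Category.comp_id]
    exact hβ
  · rw [← cancel_epi (KoszTw.tensorMap (cokernel.π (Formal.smulFamily K M)) (𝟙 P)),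
      Category.comp_id]
    have := hβ
    dsimp only at this
    rw [reassoc_of% this, cokernel.π_desc]

/-- vanishing of the cohomology of `(M ⊗ P) / I^n (M ⊗ P)` from that of `(M / I^n M) ⊗ P`. -/
theorem subsingleton_HH_modPow_tensor (I : Ideal A) (hI : I.FG) (n : ℕ) (M : X.Modules)
    {P : X.Modules} (hP : PicF.IsInvertible P) (p : ℕ)
    (h : Subsingleton (Coh.HH X (CohB1.tensorMod (Formal.modPow I n M) P) p)) :
    Subsingleton (Coh.HH X (Formal.modPow I n (CohB1.tensorMod M P)) p) := by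
  obtain ⟨e, -⟩ := exists_cokernel_smulFamily_tensor_iso (I ^ n) (Ideal.FG.pow hI) M hP
  exact AS.subsingleton_HH_of_iso' e.symm p h

end Groth.Agent.LD.GE
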