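import Groth.Agent.Lib.Lead.RS.FibreDim
import Groth.Agent.Lib.Lead.PN.AmpleDev2
import Groth.Agent.Lib.Lead.QC.PullInv
import Groth.Agent.Lib.Lead.GE.TwistModPow

/-! # Ampleness on the closed fibre and eventual vanishing for modules killed by a power of the
maximal ideal, on `X ×_Y Spec O_{Y,y}` -/

set_option autoImplicit false
universe u
open CategoryTheory Limits Opposite Abelian AlgebraicGeometry TopologicalSpace

namespace Groth.Agent.LD.GE

open Groth.Agent.LD Groth.Agent.LD.QC Groth.Agent.LD.PN.AmD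

section Fib

variable {X Y : Scheme.{u}} (f : X ⟶ Y) (y : Y)
  (X₁ : Scheme.{u}) [X₁.Over (Spec (CommRingCat.of (Y.presheaf.stalk y)))] (g : X₁ ⟶ X)
  (hsq : IsPullback g (X₁ ↘ Spec (CommRingCat.of (Y.presheaf.stalk y))) f (Y.fromSpecStalk y))

/-- the closed fibre inside `X ×_Y Spec O_{Y,y}`. -/
noncomputable def fibToLoc : f.fiber y ⟶ X₁ :=
  hsq.lift (f.fiberι y) (f.fiberToSpecResidueField y ≫ Spec.map (Y.residue y)) (by
    rw [f.fiber_fac y, Category.assoc]; rfl)

lemma fibToLoc_fst : fibToLoc f y X₁ g hsq ≫ g = f.fiberι y := hsq.lift_fst _ _ _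

lemma fibToLoc_snd : fibToLoc f y X₁ g hsq ≫ (X₁ ↘ Spec (CommRingCat.of (Y.presheaf.stalk y))) =
    f.fiberToSpecResidueField y ≫ Spec.map (Y.residue y) := hsq.lift_snd _ _ _

lemma isPullback_fibToLoc : IsPullback (fibToLoc f y X₁ g hsq) (f.fiberToSpecResidueField y)
    (X₁ ↘ Spec (CommRingCat.of (Y.presheaf.stalk y))) (Spec.map (Y.residue y)) := by
  refine IsPullback.of_right ?_ (fibToLoc_snd f y X₁ g hsq) hsq
  rw [fibToLoc_fst]
  exact IsPullback.of_hasPullback f (Y.fromSpecResidueField y)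

lemma isClosedImmersion_fibToLoc : IsClosedImmersion (fibToLoc f y X₁ g hsq) :=
  MorphismProperty.of_isPullback (P := @IsClosedImmersion)
    (isPullback_fibToLoc f y X₁ g hsq).flip inferInstance

lemma mem_range_fibToLoc (x : X₁)
    (hx : (X₁ ↘ Spec (CommRingCat.of (Y.presheaf.stalk y))).base x =
      IsLocalRing.closedPoint (Y.presheaf.stalk y)) :
    x ∈ Set.range (fibToLoc f y X₁ g hsq).base := by
  obtain ⟨p, hp, -⟩ := Scheme.exists_preimage_of_isPullback
    (isPullback_fibToLoc f y X₁ g hsq) x (default : Spec (Y.residueField y)) (by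
      rw [hx]
      exact (Scheme.SpecMap_residue_apply y default).symm)
  exact ⟨p, hp⟩

/-- the pullback of `L` to `X ×_Y Spec O_{Y,y}` is ample on the closed fibre. -/
lemma isAmple_pullback_fibToLoc (L : X.Modules)
    (hy : CohB1.IsAmple ((Scheme.Modules.pullback (f.fiberι y)).obj L)) :
    CohB1.IsAmple ((Scheme.Modules.pullback (fibToLoc f y X₁ g hsq)).obj
      ((Scheme.Modules.pullback g).obj L)) := by
  have e : (Scheme.Modules.pullback (fibToLoc f y X₁ g hsq)).obj
      ((Scheme.Modules.pullback g).obj L) ≅ (Scheme.Modules.pullback (f.fiberι y)).obj L :=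
    (Scheme.Modules.pullbackComp (fibToLoc f y X₁ g hsq) g).app L ≪≫
      (Scheme.Modules.pullbackCongr (fibToLoc_fst f y X₁ g hsq)).app L
  exact isAmple_of_iso e.symm hy

end Fib

section Main

variable {X Y : Scheme.{u}} (f : X ⟶ Y) [IsProper f] [IsLocallyNoetherian Y] (y : Y)
  (X₁ : Scheme.{u}) [X₁.Over (Spec (CommRingCat.of (Y.presheaf.stalk y)))] (g : X₁ ⟶ X)
  (hsq : IsPullback g (X₁ ↘ Spec (CommRingCat.of (Y.presheaf.stalk y))) f (Y.fromSpecStalk y))

include hsq in
/-- the pullback of `L` is ample on every closed subscheme of `X ×_Y Spec O_{Y,y}` lying over the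
closed point. -/
theorem isAmple_pullback_of_closedPoint (L : X.Modules) (hL : PicF.IsInvertible L)
    (hy : CohB1.IsAmple ((Scheme.Modules.pullback (f.fiberι y)).obj L))
    {Z : Scheme.{u}} (c : Z ⟶ X₁) [IsClosedImmersion c]
    (hz : ∀ z : Z, (X₁ ↘ Spec (CommRingCat.of (Y.presheaf.stalk y))).base (c.base z) =
      IsLocalRing.closedPoint (Y.presheaf.stalk y)) :
    CohB1.IsAmple ((Scheme.Modules.pullback c).obj ((Scheme.Modules.pullback g).obj L)) := by
  haveI : IsProper (X₁ ↘ Spec (CommRingCat.of (Y.presheaf.stalk y))) :=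
    MorphismProperty.of_isPullback (P := @IsProper) hsq inferInstance
  haveI hci := isClosedImmersion_fibToLoc f y X₁ g hsq
  refine isAmple_of_integral_closed (Y.presheaf.stalk y)
    (c ≫ (X₁ ↘ Spec (CommRingCat.of (Y.presheaf.stalk y)))) _
    (isInvertible_pullback c (isInvertible_pullback g hL)) (fun W i hi hW => ?_)
  haveI := hi
  haveI := hW
  have hrange : Set.range (i ≫ c).base ⊆
      ((fibToLoc f y X₁ g hsq).ker.support : Set X₁) := by
    rw [Scheme.Hom.support_ker, (fibToLoc f y X₁ g hsq).isClosedEmbedding.isClosed_range.closure_eq]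
    rintro _ ⟨w, rfl⟩
    exact mem_range_fibToLoc f y X₁ g hsq _ (hz (i.base w))
  have H : (fibToLoc f y X₁ g hsq).ker ≤ (i ≫ c).ker :=
    le_ker_of_isReduced (i ≫ c) _ hrange
  let j : W ⟶ f.fiber y := IsClosedImmersion.lift (fibToLoc f y X₁ g hsq) (i ≫ c) H
  have hj : j ≫ fibToLoc f y X₁ g hsq = i ≫ c := IsClosedImmersion.lift_fac _ _ H
  haveI : IsClosedImmersion (j ≫ fibToLoc f y X₁ g hsq) := by
    rw [hj]; infer_instance
  haveI : IsClosedImmersion j := IsClosedImmersion.of_comp j (fibToLoc f y X₁ g hsq)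
  have h1 := isAmple_pullback_of_isAffineHom j _ (isAmple_pullback_fibToLoc f y X₁ g hsq L hy)
  have e : (Scheme.Modules.pullback j).obj ((Scheme.Modules.pullback (fibToLoc f y X₁ g hsq)).obj
      ((Scheme.Modules.pullback g).obj L)) ≅
      (Scheme.Modules.pullback i).obj ((Scheme.Modules.pullback c).obj
        ((Scheme.Modules.pullback g).obj L)) :=
    (Scheme.Modules.pullbackComp j (fibToLoc f y X₁ g hsq)).app _ ≪≫
      (Scheme.Modules.pullbackCongr hj).app _ ≪≫
      ((Scheme.Modules.pullbackComp i c).app _).symm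
  exact isAmple_of_iso e h1

include hsq in
/-- **eventual vanishing for coherent modules killed by a power of the maximal ideal.** -/
theorem ev_of_killedBy_pow (L : X.Modules) (hL : PicF.IsInvertible L)
    (hy : CohB1.IsAmple ((Scheme.Modules.pullback (f.fiberι y)).obj L))
    (G : X₁.Modules) (hG : Coh.IsCoh G) (n : ℕ)
    (hk : Formal.KilledBy (IsLocalRing.maximalIdeal (Y.presheaf.stalk y) ^ n) G) :
    EV ((Scheme.Modules.pullback g).obj L) G := by
  haveI := hG.1
  haveI : IsProper (X₁ ↘ Spec (CommRingCat.of (Y.presheaf.stalk y))) :=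
    MorphismProperty.of_isPullback (P := @IsProper) hsq inferInstance
  haveI : IsLocallyNoetherian X₁ :=
    LocallyOfFiniteType.isLocallyNoetherian (X₁ ↘ Spec (CommRingCat.of (Y.presheaf.stalk y)))
  let I := QC.annIdeal G hG.2
  have hr : Set.range I.subschemeι = CohB1.support G := by
    rw [I.range_subschemeι]
    exact QC.support_annIdeal G hG.2
  have hiso : IsIso ((Scheme.Modules.pullbackPushforwardAdjunction I.subschemeι).unit.app G) := by
    rw [QC.isIso_unit_closedImmersion_iff]
    intro U a ha s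
    rw [Scheme.IdealSheafData.ker_subschemeι] at ha
    exact Module.mem_annihilator.mp ha s
  haveI : IsLocallyNoetherian I.subscheme :=
    LocallyOfFiniteType.isLocallyNoetherian I.subschemeι
  have hz : ∀ z : I.subscheme,
      (X₁ ↘ Spec (CommRingCat.of (Y.presheaf.stalk y))).base (I.subschemeι.base z) =
        IsLocalRing.closedPoint (Y.presheaf.stalk y) := by
    intro z
    have hzs : I.subschemeι.base z ∈ CohB1.support G := hr ▸ ⟨z, rfl⟩
    have hle := SC.le_asIdeal_of_mem_support_of_killedBy _ G hk _ hzs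
    have hle' : IsLocalRing.maximalIdeal (Y.presheaf.stalk y) ≤
        ((X₁ ↘ Spec (CommRingCat.of (Y.presheaf.stalk y))).base (I.subschemeι.base z)).asIdeal :=
      (PrimeSpectrum.isPrime _).le_of_pow_le hle
    apply PrimeSpectrum.ext
    exact ((IsLocalRing.maximalIdeal.isMaximal _).eq_of_le
      (PrimeSpectrum.isPrime _).ne_top hle').symm
  have hcoh : Coh.IsCoh ((Scheme.Modules.pullback I.subschemeι).obj G) :=
    ⟨QC.qc_pullback _ G, QC.isFiniteType_pullback _ G hG.2⟩
  have h1 := EV_push (Y.presheaf.stalk y) (X₁ ↘ Spec (CommRingCat.of (Y.presheaf.stalk y)))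
    I.subschemeι ((Scheme.Modules.pullback g).obj L) (isInvertible_pullback g hL)
    (isAmple_pullback_of_closedPoint f y X₁ g hsq L hL hy I.subschemeι hz) _ hcoh
  exact h1.of_iso
    (asIso ((Scheme.Modules.pullbackPushforwardAdjunction I.subschemeι).unit.app G)).symm

end Main

end Groth.Agent.LD.GE
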