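import Groth.Agent.Lib.Lead.GE.UVan
import Groth.Agent.Lib.Lead.FF.ReesMain
import Groth.Agent.Lib.Lead.QC.InvBasis
import Groth.Prelude.Def_Formal

/-! # The graded family `(I^(k+1) G_{k+1})_k` of a coherent formal module, and uniform vanishing
for the kernels of its transition maps -/

universe u
open CategoryTheory Limits Opposite TopologicalSpace AlgebraicGeometry

namespace Groth.Agent.LD.GE
open Groth.Agent.LD.FF Groth.Agent.LD

variable {A : Type u} [CommRing A] {X : Scheme.{u}} [X.Over (Spec (CommRingCat.of A))]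

lemma ι_σ (J : Ideal A) (M : X.Modules) (b : J) :
    Sigma.ι (fun _ : J => M) b ≫ Formal.smulFamily J M = Formal.smulMod A M (b : A) := by
  unfold Formal.smulFamily
  rw [Sigma.ι_desc]

/-- `J · M ⟶ M ⟶ M` (multiplication by `a`) vanishes when `a J` kills `M`. -/
lemma ι_smulMod_eq_zero (J J' : Ideal A) (M : X.Modules) (hM : Formal.KilledBy J' M) (a : A)
    (h : ∀ b ∈ J, a * b ∈ J') : CohIII.idealMulι J M ≫ Formal.smulMod A M a = 0 := by
  apply idealMul_hom_ext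
  intro b
  rw [eComp_ι_assoc, comp_zero, ← CohIII.smulMod_mul]
  exact hM _ (h b b.2)

variable (I : Ideal A) (G : ℕᵒᵖ ⥤ X.Modules)

/-- the transition map `G_{k+1} ⟶ G_k`. -/
noncomputable abbrev tr (k : ℕ) : G.obj (op (k + 1)) ⟶ G.obj (op k) :=
  G.map (homOfLE (Nat.le_succ k)).op

/-- `I^(k+1) · G_{k+1}`. -/
noncomputable abbrev gr (k : ℕ) : X.Modules :=
  CohIII.idealMul (I ^ (k + 1)) (G.obj (op (k + 1)))

variable {I G}

lemma epi_tr (hG : Formal.IsCohFormal I G) (k : ℕ) : Epi (tr G k) := by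
  obtain ⟨h, hiso⟩ := hG.2.2 k
  haveI := hiso
  have e : tr G k = cokernel.π (Formal.smulFamily (I ^ (k + 1)) (G.obj (op (k + 1)))) ≫
      cokernel.desc _ _ h := (cokernel.π_desc _ _ h).symm
  rw [e]
  haveI : Epi (cokernel.desc _ _ h) := @IsIso.epi_of_iso _ _ _ _ _ hiso
  haveI : Epi (cokernel.π (Formal.smulFamily (I ^ (k + 1)) (G.obj (op (k + 1))))) :=
    coequalizer.π_epi
  exact epi_comp _ _

/-- a morphism to `G_{k+1}` killed by the transition map factors through `I^(k+1) G_{k+1}`. -/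
lemma lemmaK (hG : Formal.IsCohFormal I G) (k : ℕ) {W : X.Modules} (w : W ⟶ G.obj (op (k + 1)))
    (hw : w ≫ tr G k = 0) :
    ∃ v : W ⟶ gr I G k, v ≫ CohIII.idealMulι (I ^ (k + 1)) (G.obj (op (k + 1))) = w := by
  obtain ⟨h, hiso⟩ := hG.2.2 k
  haveI := hiso
  have h0 : w ≫ cokernel.π (Formal.smulFamily (I ^ (k + 1)) (G.obj (op (k + 1)))) = 0 := by
    rw [← cancel_mono (cokernel.desc _ _ h), Category.assoc, cokernel.π_desc, zero_comp]
    exact hw
  refine ⟨kernel.lift _ w h0 ≫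
    (Abelian.imageIsoImage (Formal.smulFamily (I ^ (k + 1)) (G.obj (op (k + 1))))).hom, ?_⟩
  change (_ ≫ _) ≫ Limits.image.ι (Formal.smulFamily (I ^ (k + 1)) (G.obj (op (k + 1)))) = w
  rw [Category.assoc, Abelian.imageIsoImage_hom_comp_image_ι, kernel.lift_ι]

lemma ι_tr (hG : Formal.IsCohFormal I G) (k : ℕ) :
    CohIII.idealMulι (I ^ (k + 1)) (G.obj (op (k + 1))) ≫ tr G k = 0 := by
  obtain ⟨h, _⟩ := hG.2.2 k
  apply idealMul_hom_ext
  intro b
  rw [eComp_ι_assoc, comp_zero, ← ι_σ, Category.assoc]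
  change _ ≫ (Formal.smulFamily (I ^ (k + 1)) (G.obj (op (k + 1))) ≫
    G.map (homOfLE (Nat.le_succ k)).op) = 0
  rw [h, comp_zero]

/-- `I^(k+1) G_{k+1}` is the kernel of the transition map. -/
noncomputable def grIso (hG : Formal.IsCohFormal I G) (k : ℕ) : gr I G k ≅ kernel (tr G k) := by
  have e := IsLimit.conePointUniqueUpToIso
    (KernelFork.IsLimit.ofι' (CohIII.idealMulι (I ^ (k + 1)) (G.obj (op (k + 1)))) (ι_tr hG k)
      (fun {_} w hw => ⟨Classical.choose (lemmaK hG k w hw),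
        Classical.choose_spec (lemmaK hG k w hw)⟩))
    (kernelIsKernel (tr G k))
  exact e

section ops

variable (I G) in
/-- the epimorphism `∐_{b ∈ I^(k+1)} G_{k+2} ⟶ I^(k+1) G_{k+1}`. -/
noncomputable def E (k : ℕ) :
    (∐ fun _ : ↥(I ^ (k + 1)) => G.obj (op (k + 1 + 1))) ⟶ gr I G k :=
  Sigma.desc (fun b => tr G (k + 1) ≫ eComp (I ^ (k + 1)) (G.obj (op (k + 1))) b)

lemma ι_E (k : ℕ) (b : ↥(I ^ (k + 1))) :
    Sigma.ι (fun _ : ↥(I ^ (k + 1)) => G.obj (op (k + 1 + 1))) b ≫ E I G k =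
      tr G (k + 1) ≫ eComp (I ^ (k + 1)) (G.obj (op (k + 1))) b := by
  unfold E
  rw [Sigma.ι_desc]

lemma epi_E (hG : Formal.IsCohFormal I G) (k : ℕ) : Epi (E I G k) := by
  haveI := epi_tr hG (k + 1)
  refine ⟨fun {Z} f g hfg => ?_⟩
  apply idealMul_hom_ext
  intro b
  rw [← cancel_epi (tr G (k + 1)), ← Category.assoc, ← Category.assoc, ← ι_E, Category.assoc,
    Category.assoc, hfg]

lemma mul_mem_aux {a : A} (ha : a ∈ I) (k : ℕ) (b : ↥(I ^ (k + 1))) :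
    a * (b : A) ∈ I ^ (k + 1 + 1) := by
  rw [pow_succ']
  exact Ideal.mul_mem_mul ha b.2

variable (G) in
/-- the map to be descended. -/
noncomputable def ψ (a : A) (ha : a ∈ I) (k : ℕ) :
    (∐ fun _ : ↥(I ^ (k + 1)) => G.obj (op (k + 1 + 1))) ⟶ gr I G (k + 1) :=
  Sigma.desc (fun b => eComp (I ^ (k + 1 + 1)) (G.obj (op (k + 1 + 1)))
    ⟨a * b, mul_mem_aux ha k b⟩)

lemma ι_ψ (a : A) (ha : a ∈ I) (k : ℕ) (b : ↥(I ^ (k + 1))) :
    Sigma.ι (fun _ : ↥(I ^ (k + 1)) => G.obj (op (k + 1 + 1))) b ≫ ψ G a ha k =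
      eComp (I ^ (k + 1 + 1)) (G.obj (op (k + 1 + 1))) ⟨a * b, mul_mem_aux ha k b⟩ := by
  unfold ψ
  rw [Sigma.ι_desc]

lemma ψ_ι (a : A) (ha : a ∈ I) (k : ℕ) :
    ψ G a ha k ≫ CohIII.idealMulι (I ^ (k + 1 + 1)) (G.obj (op (k + 1 + 1))) =
      Formal.smulFamily (I ^ (k + 1)) (G.obj (op (k + 1 + 1))) ≫
        Formal.smulMod A (G.obj (op (k + 1 + 1))) a := by
  apply Sigma.hom_ext
  intro b
  rw [← Category.assoc, ι_ψ, eComp_ι, ← Category.assoc, ι_σ, ← CohIII.smulMod_mul]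

lemma E_ι (k : ℕ) :
    E I G k ≫ CohIII.idealMulι (I ^ (k + 1)) (G.obj (op (k + 1))) =
      Formal.smulFamily (I ^ (k + 1)) (G.obj (op (k + 1 + 1))) ≫ tr G (k + 1) := by
  apply Sigma.hom_ext
  intro b
  rw [← Category.assoc, ι_E, Category.assoc, eComp_ι, ← Category.assoc, ι_σ, comp_smulMod]

lemma hψ (hG : Formal.IsCohFormal I G) (a : A) (ha : a ∈ I) (k : ℕ) :
    kernel.ι (E I G k) ≫ ψ G a ha k = 0 := by
  have h1 : (kernel.ι (E I G k) ≫ Formal.smulFamily (I ^ (k + 1)) (G.obj (op (k + 1 + 1)))) ≫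
      tr G (k + 1) = 0 := by
    rw [Category.assoc, ← E_ι, ← Category.assoc, kernel.condition, zero_comp]
  obtain ⟨v, hv⟩ := lemmaK hG (k + 1) _ h1
  rw [← cancel_mono (CohIII.idealMulι (I ^ (k + 1 + 1)) (G.obj (op (k + 1 + 1)))), zero_comp,
    Category.assoc, ψ_ι, ← Category.assoc, ← hv, Category.assoc,
    ι_smulMod_eq_zero (I ^ (k + 1 + 1)) (I ^ (k + 1 + 1 + 1)) _ (hG.2.1 (k + 1 + 1)) a
      (fun b hb => by rw [pow_succ' I (k + 1 + 1)]; exact Ideal.mul_mem_mul ha hb),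
    comp_zero]

/-- multiplication by `a ∈ I` as a morphism `I^(k+1) G_{k+1} ⟶ I^(k+2) G_{k+2}`. -/
noncomputable def T (hG : Formal.IsCohFormal I G) (a : A) (ha : a ∈ I) (k : ℕ) :
    gr I G k ⟶ gr I G (k + 1) :=
  haveI := epi_E hG k
  Abelian.epiDesc (E I G k) (ψ G a ha k) (hψ hG a ha k)

lemma E_T (hG : Formal.IsCohFormal I G) (a : A) (ha : a ∈ I) (k : ℕ) :
    E I G k ≫ T hG a ha k = ψ G a ha k := by
  haveI := epi_E hG k
  exact Abelian.comp_epiDesc (E I G k) (ψ G a ha k) (hψ hG a ha k)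

@[reassoc]
lemma tr_eComp_T (hG : Formal.IsCohFormal I G) (a : A) (ha : a ∈ I) (k : ℕ)
    (b : ↥(I ^ (k + 1))) :
    tr G (k + 1) ≫ eComp (I ^ (k + 1)) (G.obj (op (k + 1))) b ≫ T hG a ha k =
      eComp (I ^ (k + 1 + 1)) (G.obj (op (k + 1 + 1))) ⟨a * b, mul_mem_aux ha k b⟩ := by
  rw [← Category.assoc, ← ι_E, Category.assoc, E_T, ι_ψ]

lemma T_comm (hG : Formal.IsCohFormal I G) (a a' : A) (ha : a ∈ I) (ha' : a' ∈ I) (k : ℕ) :
    T hG a ha k ≫ T hG a' ha' (k + 1) = T hG a' ha' k ≫ T hG a ha (k + 1) := by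
  haveI := epi_tr hG (k + 1)
  haveI := epi_tr hG (k + 1 + 1)
  apply idealMul_hom_ext
  intro b
  rw [← cancel_epi (tr G (k + 1)), ← cancel_epi (tr G (k + 1 + 1)),
    tr_eComp_T_assoc hG a ha k b, tr_eComp_T hG a' ha' (k + 1),
    tr_eComp_T_assoc hG a' ha' k b, tr_eComp_T hG a ha (k + 1)]
  congr 1
  exact Subtype.ext (mul_left_comm _ _ _)

end ops

section fam
variable {s : ℕ} (a : Fin s → A) (ha : Ideal.span (Set.range a) = I)

include ha in
lemma a_mem (i : Fin s) : a i ∈ I := ha ▸ Ideal.subset_span ⟨i, rfl⟩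

/-- the graded family `(I^(k+1) G_{k+1})_k` with the operators given by generators of `I`. -/
noncomputable def formalFam (hG : Formal.IsCohFormal I G) : GFam X s where
  N k := gr I G k
  T i k := T hG (a i) (a_mem a ha i) k
  comm i j k := T_comm hG _ _ _ _ k

lemma formalFam_isCoh [IsLocallyNoetherian X] (hG : Formal.IsCohFormal I G) :
    (formalFam a ha hG).IsCoh :=
  fun k => isCoh_idealMul (I ^ (k + 1)) (G.obj (op (k + 1))) (hG.1 (k + 1))

lemma eComp_succ_eq' (hG : Formal.IsCohFormal I G) (k : ℕ) (c : ↥(I ^ (k + 1 + 1))) :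
    ∃ b : Fin s → A, ∃ hb : ∀ i, b i ∈ I ^ (k + 1),
      eComp (I ^ (k + 1 + 1)) (G.obj (op (k + 1 + 1))) c =
        ∑ i, tr G (k + 1) ≫ eComp (I ^ (k + 1)) (G.obj (op (k + 1))) ⟨b i, hb i⟩ ≫
          T hG (a i) (a_mem a ha i) k := by
  obtain ⟨b, hb, hbs⟩ := exists_of_mem_span_mul a (I ^ (k + 1)) (c : A) (by
    rw [ha, ← pow_succ']
    exact c.2)
  refine ⟨b, hb, ?_⟩
  rw [← cancel_mono (CohIII.idealMulι (I ^ (k + 1 + 1)) (G.obj (op (k + 1 + 1)))), eComp_ι,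
    Preadditive.sum_comp, hbs, smulMod_sum]
  refine Finset.sum_congr rfl fun i _ => ?_
  rw [tr_eComp_T hG (a i) (a_mem a ha i) k ⟨b i, hb i⟩]
  exact (eComp_ι (I ^ (k + 1 + 1)) (G.obj (op (k + 1 + 1)))
    ⟨a i * b i, mul_mem_aux (a_mem a ha i) k ⟨b i, hb i⟩⟩).symm

/-- the sum of the operators, as a morphism from the constant coproduct. -/
noncomputable def Φ (hG : Formal.IsCohFormal I G) (k : ℕ) :
    (∐ fun _ : Fin s => gr I G k) ⟶ gr I G (k + 1) :=
  Sigma.desc (fun i => T hG (a i) (a_mem a ha i) k)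

lemma epi_Φ (hG : Formal.IsCohFormal I G) (k : ℕ) : Epi (Φ a ha hG k) := by
  refine ⟨fun {Z} f g hfg => ?_⟩
  apply idealMul_hom_ext
  intro c
  obtain ⟨b, hb, hc⟩ := eComp_succ_eq' a ha hG k c
  rw [hc, Preadditive.sum_comp, Preadditive.sum_comp]
  refine Finset.sum_congr rfl fun i _ => ?_
  have hT : T hG (a i) (a_mem a ha i) k =
      Sigma.ι (fun _ : Fin s => gr I G k) i ≫ Φ a ha hG k := by
    unfold Φ
    rw [Sigma.ι_desc]
  rw [hT]
  simp only [Category.assoc]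
  rw [hfg]

/-- the family is generated from degree `0` on, over every affine open. -/
lemma formalFam_evGen (hG : Formal.IsCohFormal I G) (𝒰 : Set X.Opens)
    (h𝒰 : ∀ U ∈ 𝒰, IsAffineOpen U) : (formalFam a ha hG).EvGen 𝒰 0 := by
  intro k _ U hU x
  have hq : ∀ j, (gr I G j).IsQuasicoherent := fun j => qc_idealMul _ _ (hG.1 (j + 1)).1
  haveI := hq k
  haveI := epi_Φ a ha hG k
  obtain ⟨z, rfl⟩ := QC.epi_app_affine (QC.qc_sigma_fin (gr I G k) s) (hq (k + 1))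
    (Φ a ha hG k) (h𝒰 U hU) x
  refine ⟨fun i => (SC.sigmaProj (gr I G k) s i).app U z, ?_⟩
  have h := congrArg (fun φ => (φ ≫ Φ a ha hG k).app U z) (SC.sigmaProj_total (gr I G k) s)
  simp only [Category.id_comp, Preadditive.sum_comp, Category.assoc] at h
  rw [← h, finset_sum_app]
  refine Finset.sum_congr rfl fun i _ => ?_
  unfold Φ
  rw [Sigma.ι_desc]
  rfl

end fam

/-- **Uniform vanishing for the kernels of the transition maps of a coherent formal module.** -/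
theorem s0848 (A : Type u) [CommRing A] [IsNoetherianRing A] (I : Ideal A)
    (X : Scheme.{u}) [X.Over (Spec (CommRingCat.of A))] [IsProper (X ↘ Spec (CommRingCat.of A))]
    (L : X.Modules) (hL : CohB1.IsAmple L) (G : ℕᵒᵖ ⥤ X.Modules)
    (hG : Formal.IsCohFormal I G) :
    ∃ d₀ : ℕ, ∀ (n d : ℕ), d₀ ≤ d →
      Subsingleton (Coh.HH X (CohB1.tensorMod (kernel (G.map (homOfLE (Nat.le_succ n)).op))
        (CohB1.tensorPow L d)) 1) := by
  haveI : IsLocallyNoetherian X :=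
    LocallyOfFiniteType.isLocallyNoetherian (X ↘ Spec (CommRingCat.of A))
  haveI : CompactSpace X := hL.2.1
  obtain ⟨𝒰, h𝒰fin, h𝒰aff, h𝒰cov⟩ := exists_finite_affine_cover X
  obtain ⟨S, hS⟩ := (isNoetherianRing_iff_ideal_fg A).mp inferInstance I
  let a : Fin S.card → A := fun i => (S.equivFin.symm i : A)
  have ha : Ideal.span (Set.range a) = I := by
    rw [← hS]
    congr 1
    ext x
    constructor
    · rintro ⟨i, rfl⟩
      exact (S.equivFin.symm i).2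
    · intro hx
      exact ⟨S.equivFin ⟨x, hx⟩, by simp [a]⟩
  obtain ⟨d₀, hd₀⟩ := uniform_van A hL h𝒰aff h𝒰fin h𝒰cov S.card (formalFam a ha hG)
    (formalFam_isCoh a ha hG) 0 (formalFam_evGen a ha hG 𝒰 h𝒰aff)
  refine ⟨d₀, fun n d hd => ?_⟩
  exact AS.subsingleton_HH_of_iso' (QC.tensorIso' (grIso hG n) (Iso.refl _)) 1
    (hd₀ d hd n 1 Nat.one_pos)

end Groth.Agent.LD.GE
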