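import Groth.Agent.Lib.Lead.FF.Main
import Groth.Agent.Lib.Lead.FF.Noeth
import Groth.Agent.Lib.Lead.QC.TensorExact
import Groth.Agent.Lib.Lead.QC.TensorPow
import Groth.Agent.Lib.Lead.PN.AmpleSerreRel
import Groth.Agent.Lib.Lead.AS.Vanish

/-! # Uniform Serre vanishing for an eventually generated coherent graded family -/

universe u
open CategoryTheory Limits Opposite TopologicalSpace AlgebraicGeometry

namespace Groth.Agent.LD.GE
open Groth.Agent.LD.FF Groth.Agent.LD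

variable {X : Scheme.{u}}

/-- all higher cohomology of `M ⊗ L^d` vanishes. -/
def Van (L : X.Modules) (d : ℕ) (M : X.Modules) : Prop :=
  ∀ p, 0 < p → Subsingleton (Coh.HH X (CohB1.tensorMod M (CohB1.tensorPow L d)) p)

lemma isZero_tensorMod {Z P : X.Modules} (hZ : IsZero Z) (hP : PicF.IsInvertible P) :
    IsZero (CohB1.tensorMod Z P) := by
  rw [IsZero.iff_id_eq_zero, ← QC.tensorMap_id_id, hZ.eq_of_src (𝟙 Z) 0, QC.tensorMap_zero_id hP]

lemma van_of_isZero {L : X.Modules} (hL : PicF.IsInvertible L) (d : ℕ) {Z : X.Modules}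
    (hZ : IsZero Z) : Van L d Z :=
  fun p _ => CL.subsingleton_HH_of_isZero
    (isZero_tensorMod hZ (QC.isInvertible_tensorPow hL d)) p

section les
variable (A : Type u) [CommRing A] [X.Over (Spec (CommRingCat.of A))]

include A in
lemma van_X₃ {S : ShortComplex X.Modules} (hS : S.ShortExact) {L : X.Modules}
    (hL : PicF.IsInvertible L) (d : ℕ) (h1 : Van L d S.X₁) (h2 : Van L d S.X₂) :
    Van L d S.X₃ := by
  intro p hp
  have hS' := QC.shortExact_tensorMap_of_isInvertible hS _ (QC.isInvertible_tensorPow hL d)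
  have i1 : Subsingleton (Coh.HH X (CohB1.tensorMod S.X₁ (CohB1.tensorPow L d)) (p + 1)) :=
    h1 (p + 1) (Nat.succ_pos p)
  have i2 : Subsingleton (Coh.HH X (CohB1.tensorMod S.X₂ (CohB1.tensorPow L d)) p) := h2 p hp
  refine ⟨fun x y => ?_⟩
  obtain ⟨x', hx'⟩ := CL.exact₃ hS' A p x (@Subsingleton.elim _ i1 _ _)
  obtain ⟨y', hy'⟩ := CL.exact₃ hS' A p y (@Subsingleton.elim _ i1 _ _)
  rw [← hx', ← hy', @Subsingleton.elim _ i2 x' y']

include A in
lemma van_X₂ {S : ShortComplex X.Modules} (hS : S.ShortExact) {L : X.Modules}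
    (hL : PicF.IsInvertible L) (d : ℕ) (h1 : Van L d S.X₁) (h3 : Van L d S.X₃) :
    Van L d S.X₂ := by
  intro p hp
  have hS' := QC.shortExact_tensorMap_of_isInvertible hS _ (QC.isInvertible_tensorPow hL d)
  have i1 : Subsingleton (Coh.HH X (CohB1.tensorMod S.X₁ (CohB1.tensorPow L d)) p) := h1 p hp
  have i3 : Subsingleton (Coh.HH X (CohB1.tensorMod S.X₃ (CohB1.tensorPow L d)) p) := h3 p hp
  refine ⟨fun x y => ?_⟩
  obtain ⟨x', hx'⟩ := CL.exact₂ hS' A p x (@Subsingleton.elim _ i3 _ _)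
  obtain ⟨y', hy'⟩ := CL.exact₂ hS' A p y (@Subsingleton.elim _ i3 _ _)
  rw [← hx', ← hy', @Subsingleton.elim _ i1 x' y']

end les

/-- **Uniform Serre vanishing**: for an eventually generated coherent graded family `(N_k)` on a
proper scheme over a Noetherian ring with an ample invertible module `L`, there is `d₀` with
`H^p(N_k ⊗ L^d) = 0` for all `p > 0`, all `k` and all `d ≥ d₀`. -/
theorem uniform_van (A : Type u) [CommRing A] [IsNoetherianRing A]
    [X.Over (Spec (CommRingCat.of A))] [IsProper (X ↘ Spec (CommRingCat.of A))]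
    [IsLocallyNoetherian X] {L : X.Modules} (hL : CohB1.IsAmple L)
    {𝒰 : Set X.Opens} (h𝒰 : ∀ U ∈ 𝒰, IsAffineOpen U) (hfin𝒰 : 𝒰.Finite)
    (hcov : ∀ x : X, ∃ U ∈ 𝒰, x ∈ U) :
    ∀ (s : ℕ) (𝓝 : GFam X s), 𝓝.IsCoh → ∀ k₀, 𝓝.EvGen 𝒰 k₀ →
      ∃ d₀ : ℕ, ∀ d, d₀ ≤ d → ∀ k, Van L d (𝓝.N k) := by
  have serre : ∀ M : X.Modules, Coh.IsCoh M → ∃ n₀ : ℕ, ∀ n, n₀ ≤ n → Van L n M := fun M hM =>
    PN.AmS.serre_vanishing_of_isAmple A (X ↘ Spec (CommRingCat.of A)) L hL.1 hL M hM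
  intro s
  induction s with
  | zero =>
    intro 𝓝 hcoh k₀ hg
    choose n₀ hn₀ using fun k => serre (𝓝.N k) (hcoh k)
    refine ⟨(Finset.range (k₀ + 1)).sup n₀, fun d hd k => ?_⟩
    by_cases hk : k ≤ k₀
    · exact hn₀ k d (le_trans (Finset.le_sup (f := n₀) (Finset.mem_range.mpr (by omega))) hd)
    · obtain ⟨k', rfl⟩ : ∃ k', k = k' + 1 := ⟨k - 1, by omega⟩
      have hZ : IsZero (𝓝.N (k' + 1)) := by
        haveI := (hcoh (k' + 1)).1
        apply QC.isZero_of_affine_cover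
        intro x
        obtain ⟨U, hU, hxU⟩ := hcov x
        refine ⟨U, h𝒰 U hU, hxU, fun t => ?_⟩
        obtain ⟨y, hy⟩ := hg k' (by omega) U hU t
        rw [hy]
        exact Fin.sum_univ_zero _
      exact van_of_isZero hL.1 d hZ
  | succ s ih =>
    intro 𝓝 hcoh k₀ hg
    obtain ⟨kK, hK⟩ := GFam.kerFam_evGen noethHyp hcoh h𝒰 hfin𝒰 hg
    have hC := GFam.cokerFam_evGen hcoh h𝒰 hg
    obtain ⟨d₁, hd₁⟩ := ih 𝓝.kerFam (GFam.kerFam_isCoh hcoh) kK hK
    obtain ⟨d₂, hd₂⟩ := ih 𝓝.cokerFam (GFam.cokerFam_isCoh hcoh) k₀ hC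
    obtain ⟨d₃, hd₃⟩ := serre (𝓝.N 0) (hcoh 0)
    refine ⟨max d₁ (max d₂ d₃), fun d hd k => ?_⟩
    have e1 : d₁ ≤ d := le_trans (le_max_left _ _) hd
    have e2 : d₂ ≤ d := le_trans (le_trans (le_max_left _ _) (le_max_right _ _)) hd
    have e3 : d₃ ≤ d := le_trans (le_trans (le_max_right _ _) (le_max_right _ _)) hd
    induction k with
    | zero => exact hd₃ d e3
    | succ k ihk =>
      have him : Van L d (Abelian.image (𝓝.last k)) :=
        van_X₃ A (sc₁_shortExact (𝓝.last k)) hL.1 d (hd₁ d e1 k) ihk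
      exact van_X₂ A (sc₂_shortExact (𝓝.last k)) hL.1 d him (hd₂ d e2 k)

end Groth.Agent.LD.GE
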