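import Groth.Agent.Lib.Lead.GE.FormalFam

/-! # Uniform vanishing relative to a class of modules, and vanishing for all the terms of a
coherent formal module -/

universe u
open CategoryTheory Limits Opposite TopologicalSpace AlgebraicGeometry

namespace Groth.Agent.LD.GE
open Groth.Agent.LD.FF Groth.Agent.LD

variable {X : Scheme.{u}}

lemma Van.of_iso {L M N : X.Modules} (d : ℕ) (e : M ≅ N) (h : Van L d M) : Van L d N :=
  fun p hp => AS.subsingleton_HH_of_iso' (QC.tensorIso' e (Iso.refl _)) p (h p hp)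

/-- **Uniform vanishing relative to a class `C`** of modules stable under kernels and cokernels
and for which eventual vanishing of the twists holds. -/
theorem uniform_van_C (A : Type u) [CommRing A] [IsNoetherianRing A]
    [X.Over (Spec (CommRingCat.of A))] [IsLocallyNoetherian X] {L : X.Modules}
    (hL : PicF.IsInvertible L) (C : X.Modules → Prop)
    (hCker : ∀ {M N : X.Modules} (φ : M ⟶ N), C M → C N → C (kernel φ))
    (hCcoker : ∀ {M N : X.Modules} (φ : M ⟶ N), C M → C N → C (cokernel φ))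
    (serre : ∀ M : X.Modules, Coh.IsCoh M → C M → ∃ n₀ : ℕ, ∀ n, n₀ ≤ n → Van L n M)
    {𝒰 : Set X.Opens} (h𝒰 : ∀ U ∈ 𝒰, IsAffineOpen U) (hfin𝒰 : 𝒰.Finite)
    (hcov : ∀ x : X, ∃ U ∈ 𝒰, x ∈ U) :
    ∀ (s : ℕ) (𝓝 : GFam X s), 𝓝.IsCoh → (∀ k, C (𝓝.N k)) → ∀ k₀, 𝓝.EvGen 𝒰 k₀ →
      ∃ d₀ : ℕ, ∀ d, d₀ ≤ d → ∀ k, Van L d (𝓝.N k) := by
  intro s
  induction s with
  | zero =>
    intro 𝓝 hcoh hC k₀ hg
    choose n₀ hn₀ using fun k => serre (𝓝.N k) (hcoh k) (hC k)
    refine ⟨(Finset.range (k₀ + 1)).sup n₀, fun d hd k => ?_⟩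
    by_cases hk : k ≤ k₀
    · exact hn₀ k d (le_trans (Finset.le_sup (f := n₀) (Finset.mem_range.mpr (by omega))) hd)
    · obtain ⟨k', rfl⟩ : ∃ k', k = k' + 1 := ⟨k - 1, by omega⟩
      have hZ : IsZero (𝓝.N (k' + 1)) := by
        haveI := (hcoh (k' + 1)).1
        apply QC.isZero_of_affine_cover
        intro x
        obtain ⟨U, hU, hxU⟩ := hcov x
        refine ⟨U, h𝒰 U hU, hxU, fun t => ?_⟩
        obtain ⟨y, hy⟩ := hg k' (by omega) U hU t
        rw [hy]
        exact Fin.sum_univ_zero _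
      exact van_of_isZero hL d hZ
  | succ s ih =>
    intro 𝓝 hcoh hC k₀ hg
    obtain ⟨kK, hK⟩ := GFam.kerFam_evGen noethHyp hcoh h𝒰 hfin𝒰 hg
    have hC' := GFam.cokerFam_evGen hcoh h𝒰 hg
    obtain ⟨d₁, hd₁⟩ := ih 𝓝.kerFam (GFam.kerFam_isCoh hcoh)
      (fun k => hCker (𝓝.last k) (hC k) (hC (k + 1))) kK hK
    obtain ⟨d₂, hd₂⟩ := ih 𝓝.cokerFam (GFam.cokerFam_isCoh hcoh)
      (fun k => hCcoker (𝓝.last k) (hC k) (hC (k + 1))) k₀ hC'
    obtain ⟨d₃, hd₃⟩ := serre (𝓝.N 0) (hcoh 0) (hC 0)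
    refine ⟨max d₁ (max d₂ d₃), fun d hd k => ?_⟩
    have e1 : d₁ ≤ d := le_trans (le_max_left _ _) hd
    have e2 : d₂ ≤ d := le_trans (le_trans (le_max_left _ _) (le_max_right _ _)) hd
    have e3 : d₃ ≤ d := le_trans (le_trans (le_max_right _ _) (le_max_right _ _)) hd
    induction k with
    | zero => exact hd₃ d e3
    | succ k ihk =>
      have him : Van L d (Abelian.image (𝓝.last k)) :=
        van_X₃ A (sc₁_shortExact (𝓝.last k)) hL d (hd₁ d e1 k) ihk
      exact van_X₂ A (sc₂_shortExact (𝓝.last k)) hL d him (hd₂ d e2 k)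

section killed
variable {A : Type u} [CommRing A] [X.Over (Spec (CommRingCat.of A))]

lemma killedBy_kernel {J : Ideal A} {M N : X.Modules} (φ : M ⟶ N) (hM : Formal.KilledBy J M) :
    Formal.KilledBy J (kernel φ) := by
  intro a ha
  rw [← cancel_mono (kernel.ι φ), zero_comp, ← comp_smulMod, hM a ha, comp_zero]

lemma killedBy_cokernel {J : Ideal A} {M N : X.Modules} (φ : M ⟶ N)
    (hN : Formal.KilledBy J N) : Formal.KilledBy J (cokernel φ) := by
  intro a ha
  rw [← cancel_epi (cokernel.π φ), comp_zero, comp_smulMod, hN a ha, zero_comp]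

lemma killedBy_gr {I : Ideal A} {G : ℕᵒᵖ ⥤ X.Modules} (hG : Formal.IsCohFormal I G) (k : ℕ) :
    Formal.KilledBy I (gr I G k) := by
  intro a ha
  rw [← cancel_mono (CohIII.idealMulι (I ^ (k + 1)) (G.obj (op (k + 1)))), zero_comp,
    ← comp_smulMod]
  exact ι_smulMod_eq_zero (I ^ (k + 1)) (I ^ (k + 1 + 1)) _ (hG.2.1 (k + 1)) a
    (fun b hb => by rw [pow_succ' I (k + 1)]; exact Ideal.mul_mem_mul ha hb)

end killed

/-- **Uniform vanishing for all the terms of a coherent formal module**, given eventual vanishing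
of the twists of the coherent modules killed by `I`. -/
theorem van_formal (A : Type u) [CommRing A] [IsNoetherianRing A] (I : Ideal A)
    [X.Over (Spec (CommRingCat.of A))] [IsLocallyNoetherian X] [CompactSpace X] {L : X.Modules}
    (hL : PicF.IsInvertible L)
    (serre : ∀ M : X.Modules, Coh.IsCoh M → Formal.KilledBy I M →
      ∃ n₀ : ℕ, ∀ n, n₀ ≤ n → Van L n M)
    (G : ℕᵒᵖ ⥤ X.Modules) (hG : Formal.IsCohFormal I G) :
    ∃ d₀ : ℕ, ∀ d, d₀ ≤ d → ∀ n, Van L d (G.obj (op n)) := by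
  obtain ⟨𝒰, h𝒰fin, h𝒰aff, h𝒰cov⟩ := exists_finite_affine_cover X
  obtain ⟨S, hS⟩ := (isNoetherianRing_iff_ideal_fg A).mp inferInstance I
  let a : Fin S.card → A := fun i => (S.equivFin.symm i : A)
  have ha : Ideal.span (Set.range a) = I := by
    rw [← hS]
    congr 1
    ext x
    constructor
    · rintro ⟨i, rfl⟩
      exact (S.equivFin.symm i).2
    · intro hx
      exact ⟨S.equivFin ⟨x, hx⟩, by simp [a]⟩
  obtain ⟨d₁, hd₁⟩ := uniform_van_C A hL (fun M => Formal.KilledBy I M)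
    (fun φ hM _ => killedBy_kernel φ hM) (fun φ _ hN => killedBy_cokernel φ hN) serre
    h𝒰aff h𝒰fin h𝒰cov S.card (formalFam a ha hG) (formalFam_isCoh a ha hG)
    (fun k => killedBy_gr hG k) 0 (formalFam_evGen a ha hG 𝒰 h𝒰aff)
  have h0 : Formal.KilledBy I (G.obj (op 0)) := by
    have := hG.2.1 0
    rwa [zero_add, pow_one] at this
  obtain ⟨d₂, hd₂⟩ := serre (G.obj (op 0)) (hG.1 0) h0
  refine ⟨max d₁ d₂, fun d hd n => ?_⟩
  induction n with
  | zero => exact hd₂ d (le_trans (le_max_right _ _) hd)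
  | succ n ihn =>
    have hS : (ShortComplex.mk (kernel.ι (tr G n)) (tr G n) (kernel.condition _)).ShortExact :=
      { exact := ShortComplex.exact_of_f_is_kernel _ (kernelIsKernel _)
        mono_f := inferInstanceAs (Mono (kernel.ι (tr G n)))
        epi_g := epi_tr hG n }
    exact van_X₂ A hS hL d
      (Van.of_iso d (grIso hG n) (hd₁ d (le_trans (le_max_left _ _) hd) n)) ihn

end Groth.Agent.LD.GE
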